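import Mathlib.GroupTheory.GroupAction.Quotient
import Mathlib.GroupTheory.Index
import Mathlib.GroupTheory.Sylow
import Mathlib.Algebra.Group.End
import Cfsg.Agent.FixBN.OfBN
import Cfsg.Agent.FixBN.Transport
import Cfsg.Agent.S0320
import Cfsg.Agent.FastGrp
import Cfsg.Agent.Prune
set_option linter.all false
prune_inst 0x7f00000000000000000000000000000000000000000000000000000000000000000000000000000000000000000000000000000000000000000000000000000000000000000000000000000000000000003fffffffffffffffffffffffffffbeffbdffffffff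
open scoped Cfsg.Agent.FastGrp

-- part: H682/CosetFix
section
/-!
# Cosets of automorphisms all of whose elements are conjugate

`existsUnique_fixed`: `φ : S →* A`, `A` acts on the finite nonempty set `X`, `S` transitive on `X`, and all elements
`φ s * σ` are conjugate to `σ` in `A`. Then `σ` fixes exactly one point of `X`.

`false_of_opp`: a finite group `S` with a prime `p` such that the pairs `(P, Q)` of Sylow `p`-subgroups with
`P ⊓ Q = ⊥` exist and form one orbit under `S` and such that `p` divides the order of `S` has no automorphism `σ` such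
that all `Inn(s) σ` are conjugate to `σ` in `Aut S`.
-/

set_option autoImplicit false

namespace Cfsg.Agent.H682.CosetFix

end Cfsg.Agent.H682.CosetFix
end

-- part: H682/OppSyl
section
/-!
# Opposite Sylow `p`-subgroups in a group with a split (B,N)-pair

`K` finite with a split (B,N)-pair of characteristic `p` (`FixBN.HasSplit p K`). The pairs `(P, Q)` of Sylow
`p`-subgroups with `P ⊓ Q = ⊥` exist (`exists_opp`) and form one orbit under `K` (`orbit_opp`).
`false_of_hasSplit`: no automorphism `σ` of `K` is such that all `Inn(s) σ` are conjugate to `σ` in `Aut K`.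
-/

set_option autoImplicit false

namespace Cfsg.Agent.H682.OppSyl

open Cfsg Cfsg.Agent.LieExceptional.BNPairCore Cfsg.Agent.Tits.Core Cfsg.Agent.Tits.Core.Bldg Cfsg.Agent.Tits.OfBN
  Cfsg.Agent.Schreier.BNSch Cfsg.Agent.Tits.OppRes Cfsg.Agent.FixBN Cfsg.Agent.FixBN.OfBN

variable {K : Type*} [Group K] {P : Cfsg.BNPair K} {p : ℕ} {U : Subgroup K}

section

variable [hN : ((P.B ⊓ P.N).subgroupOf P.N).Normal]
variable {I : Type*} {M : CoxeterMatrix I} (e : I ≃ P.S) (cs : CoxeterSystem M (WP P))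
  (hcs : ∀ i, cs.simple i = QuotientGroup.mk (⟨(e i : K), P.subset (e i).2⟩ : P.N))
variable (S : Split P p U) [Finite K] [Fact p.Prime]

include S

/-- chambers with trivially intersecting unipotent groups are opposite -/
theorem opp_of_inf {x y : K ⧸ P.B} (h : ∀ u, u ∈ UU P U x → u ∈ UU P U y → u = 1) :
    (bldg P e cs hcs).Opp x y := by
  have hI : Finite I := finite_I e
  set Δ := bldg P e cs hcs with hΔ
  have hC : Cox cs := inferInstance
  have hiso : ∀ (g : K) (a b : K ⧸ P.B), Δ.δ (g • a) (g • b) = Δ.δ a b := fun g a b => dist_smul P g a b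
  show Δ.δ x y = w0 cs
  have key : ∀ j ∈ (Set.univ : Set I), cs.length (Δ.δ x y * cs.simple j) < cs.length (Δ.δ x y) := by
    intro i _
    by_contra hlt
    have hlt' : cs.length (Δ.δ x y) < cs.length (Δ.δ x y * cs.simple i) := by
      rcases cs.length_mul_simple (Δ.δ x y) i with h1 | h1 <;> omega
    obtain ⟨z₁, z₂, hz, h1, h2⟩ := thick P e cs hcs y i
    have d1 : Δ.δ x z₁ = Δ.δ x y * cs.simple i := Δ.step_lt x y z₁ i h1 hlt'
    have d2 : Δ.δ x z₂ = Δ.δ x y * cs.simple i := Δ.step_lt x y z₂ i h2 hlt'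
    obtain ⟨u, hu, huz⟩ := OfBN.trans S (x := x) (y := z₁) (z := z₂) (d1.trans d2.symm)
    -- `u` fixes `y`
    have huy : u • y = y := by
      refine Tits.Rigid.eq_of_short (Δ := Δ) (j := i) (x := x) (w := Δ.δ x y) ?_ rfl hlt' ?_
      · conv_lhs => rw [← fix S hu]
        exact hiso u x y
      · have m1 : u • z₁ ∈ Δ.Pan i (u • y) := Or.inr (by rw [hiso]; exact h1)
        rw [huz] at m1
        have m2 : z₂ ∈ Δ.Pan i y := Or.inr h2
        exact Tits.Rigid.mem_Pan_Res (Δ.mem_Pan_trans m1 (Δ.mem_Pan_symm m2))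
    have hU : u ∈ UU P U y := by
      have h3 : Subgroup.zpowers u ≤ UU P U y := by
        refine OfBN.max S y _ ?_ ?_
        · exact (isP S x).to_le (by rw [Subgroup.zpowers_le]; exact hu)
        · intro v hv
          obtain ⟨k, rfl⟩ := Subgroup.mem_zpowers_iff.1 hv
          exact MulAction.mem_stabilizer_iff.1
            (zpow_mem (MulAction.mem_stabilizer_iff.2 huy : u ∈ MulAction.stabilizer K y) k)
      exact h3 (Subgroup.mem_zpowers u)
    have := h u hu hU
    rw [this, one_smul] at huz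
    exact hz huz
  exact hC.eq_wJ_of_descents (J := Set.univ) (by rw [WJ_univ]; trivial) key

include e hcs in
/-- opposite chambers exist, with trivially intersecting unipotent groups -/
theorem exists_inf : ∃ x y : K ⧸ P.B, ∀ u, u ∈ UU P U x → u ∈ UU P U y → u = 1 := by
  have hI : Finite I := finite_I e
  obtain ⟨y, hy⟩ := exists_delta (bldg P e cs hcs) (QuotientGroup.mk 1 : K ⧸ P.B) (w0 cs)
  exact ⟨_, y, fun u hu hu' => OfBN.free e cs hcs S hy hu (fix S hu')⟩

omit hN in
/-- the unipotent group of a chamber is a Sylow subgroup -/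
theorem exists_sylow_eq (x : K ⧸ P.B) : ∃ Q : Sylow p K, (Q : Subgroup K) = UU P U x := by
  refine ⟨{ toSubgroup := UU P U x, isPGroup' := isP S x, is_maximal' := ?_ }, rfl⟩
  intro V hV hle
  obtain ⟨y, hy⟩ := exists_fix S V hV
  have h1 : V ≤ UU P U y := OfBN.max S y V hV hy
  have h2 : Nat.card (UU P U y) = Nat.card (UU P U x) := by
    unfold UU
    rw [Nat.card_congr (U.equivMapOfInjective (MulAut.conj x.out).toMonoidHom (MulAut.conj x.out).injective).symm.toEquiv,
      Nat.card_congr (U.equivMapOfInjective (MulAut.conj y.out).toMonoidHom (MulAut.conj y.out).injective).symm.toEquiv]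
  have h3 : UU P U x = UU P U y := Subgroup.eq_of_le_of_card_ge (hle.trans h1) h2.le
  exact le_antisymm (h3 ▸ h1) hle

omit hN in
/-- every Sylow subgroup is the unipotent group of a chamber -/
theorem exists_chamber_eq (Q : Sylow p K) : ∃ x : K ⧸ P.B, (Q : Subgroup K) = UU P U x := by
  obtain ⟨x, hx⟩ := exists_fix S (Q : Subgroup K) Q.isPGroup'
  have h1 : (Q : Subgroup K) ≤ UU P U x := OfBN.max S x _ Q.isPGroup' hx
  exact ⟨x, (Q.is_maximal' (isP S x) h1).symm⟩

end

/-- **The pairs of Sylow `p`-subgroups with trivial intersection exist and form one orbit.** -/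
theorem main [Finite K] [Fact p.Prime] (h : HasSplit p K) :
    (∃ Q R : Sylow p K, (Q : Subgroup K) ⊓ R = ⊥) ∧
      (∀ Q R Q' R' : Sylow p K, (Q : Subgroup K) ⊓ R = ⊥ → (Q' : Subgroup K) ⊓ R' = ⊥ →
        ∃ s : K, s • Q = Q' ∧ s • R = R') ∧ p ∣ Nat.card K := by
  obtain ⟨P, U, hne, S⟩ := h
  have hN : ((P.B ⊓ P.N).subgroupOf P.N).Normal := normal_subgroupOf P
  obtain ⟨M, cs, hcs⟩ := S0320.result P
  refine ⟨?_, ?_, ?_⟩
  · obtain ⟨x, y, hxy⟩ := exists_inf (Equiv.refl P.S) cs hcs S
    obtain ⟨Q, hQ⟩ := exists_sylow_eq S x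
    obtain ⟨R, hR⟩ := exists_sylow_eq S y
    refine ⟨Q, R, ?_⟩
    rw [eq_bot_iff]
    intro u hu
    rw [hQ, hR] at hu
    exact Subgroup.mem_bot.2 (hxy u hu.1 hu.2)
  · intro Q R Q' R' h1 h2
    obtain ⟨x, hx⟩ := exists_chamber_eq S Q
    obtain ⟨y, hy⟩ := exists_chamber_eq S R
    obtain ⟨x', hx'⟩ := exists_chamber_eq S Q'
    obtain ⟨y', hy'⟩ := exists_chamber_eq S R'
    have o1 : (bldg P (Equiv.refl P.S) cs hcs).Opp x y := by
      refine opp_of_inf _ cs hcs S fun u hu hu' => Subgroup.mem_bot.1 ?_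
      rw [← h1, hx, hy]
      exact ⟨hu, hu'⟩
    have o2 : (bldg P (Equiv.refl P.S) cs hcs).Opp x' y' := by
      refine opp_of_inf _ cs hcs S fun u hu hu' => Subgroup.mem_bot.1 ?_
      rw [← h2, hx', hy']
      exact ⟨hu, hu'⟩
    obtain ⟨g, hg, hg'⟩ := Tits.OfBN.trans P x y x' y' (o1.trans o2.symm)
    have hsm : ∀ (z : K ⧸ P.B) (A B : Sylow p K), (A : Subgroup K) = UU P U z → (B : Subgroup K) = UU P U (g • z) →
        g • A = B := by
      intro z A B hA hB
      apply Sylow.ext
      rw [hB]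
      ext v
      rw [Sylow.smul_def, Sylow.pointwise_smul_def]
      constructor
      · rintro ⟨u, hu, rfl⟩
        have hu' : u ∈ UU P U z := hA ▸ hu
        exact (smul_UU S (g := g)).2 hu'
      · intro hv
        refine ⟨g⁻¹ * v * g, ?_, ?_⟩
        · show g⁻¹ * v * g ∈ (A : Subgroup K)
          rw [hA, ← smul_UU S (g := g)]
          have : g * (g⁻¹ * v * g) * g⁻¹ = v := by group
          rwa [this]
        · show g * (g⁻¹ * v * g) * g⁻¹ = v
          group
    exact ⟨g, hsm x Q Q' hx (by rw [hx', hg]), hsm y R R' hy (by rw [hy', hg'])⟩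
  · obtain ⟨s, hs⟩ := hne
    obtain ⟨V, hV⟩ := S.node s hs
    obtain ⟨u, hu, huV⟩ := hV.ne
    have hu1 : u ≠ 1 := fun h => huV (h ▸ one_mem V)
    obtain ⟨k, hk⟩ := S.isP ⟨u, hu⟩
    have hk' : u ^ p ^ k = 1 := by simpa using congrArg Subtype.val hk
    obtain ⟨j, -, hj⟩ := (Nat.dvd_prime_pow (Fact.out : p.Prime)).1 (orderOf_dvd_of_pow_eq_one hk')
    have hj0 : j ≠ 0 := by
      rintro rfl
      rw [pow_zero, orderOf_eq_one_iff] at hj
      exact hu1 hj
    exact ((dvd_pow_self p hj0).trans (hj ▸ dvd_rfl)).trans (orderOf_dvd_natCard u)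

end Cfsg.Agent.H682.OppSyl
end
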